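import Mathlib

/-!
# Finitely many lines on a smooth surface of degree at least three
-/

set_option autoImplicit false
universe u

namespace Groth.Agent.FanoLines

open MvPolynomial

variable {k : Type u} [Field k]

theorem taylor {N : ℕ} (p : Fin N → k) (f : MvPolynomial (Fin N) k) :
    f - C (eval p f) - ∑ j, C (eval p (pderiv j f)) * (X j - C (p j)) ∈
      (Ideal.span (Set.range fun j => X j - C (p j)) : Ideal (MvPolynomial (Fin N) k)) ^ 2 := by
  classical
  set m : Ideal (MvPolynomial (Fin N) k) := Ideal.span (Set.range fun j => X j - C (p j)) with hm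
  induction f using MvPolynomial.induction_on with
  | C a => simp
  | add f g hf hg =>
    have := (m ^ 2).add_mem hf hg
    convert this using 1
    simp only [map_add, add_mul, Finset.sum_add_distrib]
    ring
  | mul_X f i hf =>
    set L := ∑ j, C (eval p (pderiv j f)) * (X j - C (p j)) with hL
    have h1 : ∀ j, X j - C (p j) ∈ m := fun j => Ideal.subset_span ⟨j, rfl⟩
    have hLm : L ∈ m := sum_mem fun j _ => m.mul_mem_left _ (h1 j)
    have hM : f - C (eval p f) - L ∈ m := Ideal.pow_le_self two_ne_zero hf
    have h2 : (f - C (eval p f) - L) * C (p i) + (L + (f - C (eval p f) - L)) * (X i - C (p i)) ∈ m ^ 2 := by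
      refine (m ^ 2).add_mem ((m ^ 2).mul_mem_right _ hf) ?_
      rw [pow_two]
      exact Ideal.mul_mem_mul (m.add_mem hLm hM) (h1 i)
    convert h2 using 1
    have h3 : ∑ j, C (eval p (pderiv j (f * X i))) * (X j - C (p j)) = L * C (p i) + C (eval p f) * (X i - C (p i)) := by
      rw [hL, Finset.sum_mul]
      have : ∀ j, C (eval p (pderiv j (f * X i))) * (X j - C (p j)) =
          C (eval p (pderiv j f)) * (X j - C (p j)) * C (p i) + (if j = i then C (eval p f) * (X i - C (p i)) else 0) := by
        intro j
        rw [pderiv_mul, map_add, map_mul, map_mul, eval_X, map_add, map_mul, map_mul]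
        split
        next h => subst h; rw [pderiv_X_self, map_one, map_one]; ring
        next h => rw [pderiv_X_of_ne (Ne.symm h), map_zero, map_zero]; ring
      simp only [this, Finset.sum_add_distrib, Finset.sum_ite_eq', Finset.mem_univ, if_true]
    rw [h3, map_mul, eval_X, map_mul]
    ring

/-- A system of equations with injective differential at each solution has finitely many solutions. -/
theorem finite_zeros {N : ℕ} {ι : Type*} (G : ι → MvPolynomial (Fin N) k)
    (h : ∀ p, (∀ i, eval p (G i) = 0) → ∀ v : Fin N → k,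
      (∀ i, ∑ j, v j * eval p (pderiv j (G i)) = 0) → v = 0) :
    {p : Fin N → k | ∀ i, eval p (G i) = 0}.Finite := by
  classical
  set I := Ideal.span (Set.range G) with hI
  set Z := {p : Fin N → k | ∀ i, eval p (G i) = 0}
  let mp : (Fin N → k) → Ideal (MvPolynomial (Fin N) k) := fun p => RingHom.ker (eval p)
  have hmem : ∀ p ∈ Z, mp p ∈ I.minimalPrimes := by
    intro p hp
    set m : Ideal (MvPolynomial (Fin N) k) := Ideal.span (Set.range fun j => X j - C (p j)) with hm
    have hker : mp p = m := by
      apply le_antisymm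
      · intro f hf
        have h1 := Ideal.pow_le_self two_ne_zero (taylor p f)
        rw [RingHom.mem_ker] at hf
        rw [hf, map_zero, sub_zero] at h1
        have h2 : ∑ j, C (eval p (pderiv j f)) * (X j - C (p j)) ∈ m :=
          sum_mem fun j _ => m.mul_mem_left _ (Ideal.subset_span ⟨j, rfl⟩)
        simpa using m.add_mem h1 h2
      · rw [hm, Ideal.span_le]
        rintro _ ⟨j, rfl⟩
        simp [mp]
    have hIm : I ≤ mp p := Ideal.span_le.2 (by rintro _ ⟨i, rfl⟩; exact hp i)
    let W : Submodule k (Fin N → k) := Submodule.span k (Set.range fun i => fun j => eval p (pderiv j (G i)))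
    have hW : W = ⊤ := by
      by_contra hne
      obtain ⟨x, -, hx⟩ := SetLike.exists_of_lt (lt_top_iff_ne_top.2 hne)
      obtain ⟨φ, hφ1, hφ2⟩ := Submodule.exists_dual_map_eq_bot_of_notMem hx inferInstance
      have hv := h p hp (fun j => φ (fun l => if j = l then 1 else 0)) (fun i => by
        have h1 : φ (fun j => eval p (pderiv j (G i))) = 0 := by
          have : φ (fun j => eval p (pderiv j (G i))) ∈ W.map φ := ⟨_, Submodule.subset_span ⟨i, rfl⟩, rfl⟩
          rwa [hφ2, Submodule.mem_bot] at this
        rw [LinearMap.pi_apply_eq_sum_univ φ] at h1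
        simpa [mul_comm] using h1)
      refine hφ1 ?_
      rw [LinearMap.pi_apply_eq_sum_univ φ x]
      simp [fun j => congrFun hv j]
    have hgrad : ∀ w : Fin N → k, ∃ g ∈ I, ∀ j, eval p (pderiv j g) = w j := by
      intro w
      have hw : w ∈ W := by rw [hW]; trivial
      induction hw using Submodule.span_induction with
      | mem x hx => obtain ⟨i, rfl⟩ := hx; exact ⟨G i, Ideal.subset_span ⟨i, rfl⟩, fun j => rfl⟩
      | zero => exact ⟨0, zero_mem _, fun j => by simp⟩
      | add x y _ _ hx hy =>
        obtain ⟨g, hg, hg'⟩ := hx; obtain ⟨g', hg1, hg1'⟩ := hy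
        exact ⟨g + g', I.add_mem hg hg1, fun j => by simp [hg', hg1']⟩
      | smul c x _ hx =>
        obtain ⟨g, hg, hg'⟩ := hx
        exact ⟨C c * g, I.mul_mem_left _ hg, fun j => by simp [pderiv_C_mul, hg']⟩
    have hle : m ≤ I ⊔ m ^ 2 := by
      rw [hm, Ideal.span_le]
      rintro _ ⟨j, rfl⟩
      obtain ⟨g, hg, hg'⟩ := hgrad (fun l => if l = j then 1 else 0)
      have h1 := taylor p g
      rw [RingHom.mem_ker.1 (hIm hg), map_zero, sub_zero] at h1
      simp only [hg', apply_ite (C : k → MvPolynomial (Fin N) k), map_one, map_zero, ite_mul, one_mul, zero_mul,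
        Finset.sum_ite_eq', Finset.mem_univ, if_true] at h1
      exact Submodule.mem_sup.2 ⟨g, hg, -(g - (X j - C (p j))), (m ^ 2).neg_mem h1, by ring⟩
    -- idempotent
    have hfg : ((mp p).map (Ideal.Quotient.mk I)).FG :=
      IsNoetherian.noetherian _
    have hidem : IsIdempotentElem ((mp p).map (Ideal.Quotient.mk I)) := by
      refine le_antisymm Ideal.mul_le_right ?_
      have := Ideal.map_mono (f := Ideal.Quotient.mk I) hle
      rw [Ideal.map_sup, Ideal.map_quotient_self, bot_sup_eq, Ideal.map_pow, pow_two] at this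
      rwa [hker]
    obtain ⟨e, he, hee⟩ := (Ideal.isIdempotentElem_iff_of_fg _ hfg).1 hidem
    haveI : (mp p).IsMaximal := RingHom.ker_isMaximal_of_surjective (eval p) (fun c => ⟨C c, eval_C c⟩)
    refine ⟨⟨Ideal.IsMaximal.isPrime inferInstance, hIm⟩, fun q hq hqle => ?_⟩
    obtain ⟨e', rfl⟩ := Ideal.Quotient.mk_surjective e
    have hmapeq : ∀ x, x ∈ mp p ↔ Ideal.Quotient.mk I x ∈ (mp p).map (Ideal.Quotient.mk I) := fun x => by
      refine ⟨fun hx => Ideal.mem_map_of_mem _ hx, fun hx => ?_⟩
      have := Ideal.mem_comap.2 hx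
      rwa [Ideal.comap_map_of_surjective _ Ideal.Quotient.mk_surjective, ← RingHom.ker_eq_comap_bot, Ideal.mk_ker,
        sup_eq_left.2 hIm] at this
    have he'm : e' ∈ mp p := (hmapeq e').2 (by rw [hee]; exact Ideal.mem_span_singleton_self _)
    have he'q : e' ∈ q := by
      have h1 : e' * (e' - 1) ∈ q := hq.2 (by
        rw [← Ideal.Quotient.eq_zero_iff_mem, map_mul, map_sub, map_one, mul_sub, he, mul_one, sub_self])
      rcases hq.1.mem_or_mem h1 with h2 | h2
      · exact h2
      · exfalso
        have h3 := (mp p).sub_mem he'm (hqle h2)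
        rw [sub_sub_cancel] at h3
        exact (Ideal.IsMaximal.ne_top inferInstance) ((Ideal.eq_top_iff_one _).2 h3)
    intro x hx
    obtain ⟨y, hy⟩ := Ideal.mem_span_singleton'.1 (hee ▸ (hmapeq x).1 hx)
    obtain ⟨y', rfl⟩ := Ideal.Quotient.mk_surjective y
    rw [← map_mul, Ideal.Quotient.eq] at hy
    have := q.sub_mem (q.mul_mem_left y' he'q) (hq.2 hy)
    rwa [sub_sub_cancel] at this
  have hinj : Set.InjOn mp Z := by
    intro a _ b _ hab
    funext j
    have h1 : X j - C (a j) ∈ mp a := by simp [mp]
    rw [hab] at h1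
    simp [mp, sub_eq_zero] at h1
    exact h1.symm
  exact Set.Finite.of_finite_image ((I.finite_minimalPrimes_of_isNoetherianRing (MvPolynomial (Fin N) k)).subset
    (Set.image_subset_iff.2 hmem)) hinj

theorem exists_zero_binary [IsAlgClosed k] (R : MvPolynomial (Fin 2) k) {r : ℕ} (hR : R.IsHomogeneous r) (hr : 0 < r) :
    ∃ x : Fin 2 → k, x ≠ 0 ∧ eval x R = 0 := by
  set P : Polynomial k := MvPolynomial.aeval ![1, Polynomial.X] R with hP
  have heval : ∀ t, P.eval t = eval ![1, t] R := by
    intro t
    have h : (Polynomial.aeval t).comp (MvPolynomial.aeval ![(1 : Polynomial k), Polynomial.X]) =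
        MvPolynomial.aeval ![1, t] := by
      refine algHom_ext fun i => ?_
      fin_cases i <;> simp
    have := AlgHom.congr_fun h R
    rw [AlgHom.comp_apply, ← hP, aeval_eq_eval, Polynomial.coe_aeval_eq_eval] at this
    exact this
  by_cases h : P.degree = 0
  · refine ⟨![0, 1], fun h0 => by simpa using congrFun h0 1, ?_⟩
    obtain ⟨c, hc⟩ : ∃ c, P = Polynomial.C c := ⟨_, Polynomial.eq_C_of_degree_eq_zero h⟩
    have key : (X 0 : MvPolynomial (Fin 2) k) * (R - C c * X 0 ^ r) = 0 := by
      refine MvPolynomial.funext fun x => ?_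
      rw [map_zero, map_mul, eval_X]
      rcases eq_or_ne (x 0) 0 with h0 | h0
      · rw [h0, zero_mul]
      · have h1 : eval x R = x 0 ^ r * eval ![1, x 1 / x 0] R := by
          have hx : x = fun i => x 0 * ![1, x 1 / x 0] i := by
            funext i
            fin_cases i <;> simp [mul_div_cancel₀ _ h0]
          conv_lhs => rw [hx]
          simp only [eval_eq', Finset.mul_sum]
          refine Finset.sum_congr rfl fun m hm => ?_
          have hdeg : m 0 + m 1 = r := by
            have := hR (mem_support_iff.1 hm)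
            simpa [Finsupp.weight_apply, Finsupp.sum_fintype, Fin.sum_univ_two] using this
          simp only [mul_pow, Fin.prod_univ_two, Matrix.cons_val_zero, Matrix.cons_val_one]
          rw [← hdeg, pow_add]
          ring
        rw [map_sub, h1, map_mul, eval_C, map_pow, eval_X, ← heval, hc, Polynomial.eval_C]
        ring
    have h2 := (mul_eq_zero.1 key).resolve_left (X_ne_zero 0)
    rw [sub_eq_zero.1 h2]
    simp [zero_pow hr.ne']
  · obtain ⟨t, ht⟩ := IsAlgClosed.exists_root P h
    refine ⟨![1, t], fun h0 => by simpa using congrFun h0 0, ?_⟩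
    rw [← heval]
    exact ht

/-- Two binary forms without common zero satisfy no linear syzygy. -/
theorem syzygy_eq_zero [IsAlgClosed k] {r : ℕ} (hr : 2 ≤ r) (P Q : MvPolynomial (Fin 2) k)
    (hP : P.IsHomogeneous r) (hQ : Q.IsHomogeneous r)
    (hne : ∀ x : Fin 2 → k, x ≠ 0 → eval x P = 0 → eval x Q ≠ 0)
    (a b c e : k) (h : ∀ x : Fin 2 → k, (a * x 0 + b * x 1) * eval x P + (c * x 0 + e * x 1) * eval x Q = 0) :
    a = 0 ∧ b = 0 ∧ c = 0 ∧ e = 0 := by
  classical
  by_cases hdet : a * e - b * c = 0
  · by_contra hall
    -- the linear forms are dependent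
    obtain ⟨l, u, v, huv, hl⟩ : ∃ (l : (Fin 2 → k) → k) (u v : k), (u ≠ 0 ∨ v ≠ 0) ∧
        (∃ q : MvPolynomial (Fin 2) k, q ≠ 0 ∧ (∀ x, eval x q = l x) ∧
          ∀ x, a * x 0 + b * x 1 = u * l x ∧ c * x 0 + e * x 1 = v * l x) := by
      by_cases ha : a = 0 ∧ b = 0
      · refine ⟨fun x => c * x 0 + e * x 1, 0, 1, Or.inr one_ne_zero, C c * X 0 + C e * X 1, ?_, fun x => by simp,
          fun x => ⟨by simp [ha.1, ha.2], by simp⟩⟩
        intro h0
        have h1 := congrArg (eval ![1, 0]) h0
        have h2 := congrArg (eval ![0, 1]) h0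
        simp at h1 h2
        exact hall ⟨ha.1, ha.2, h1, h2⟩
      · refine ⟨fun x => a * x 0 + b * x 1, 1, if a = 0 then e / b else c / a, Or.inl one_ne_zero,
          C a * X 0 + C b * X 1, ?_, fun x => by simp, fun x => ⟨by simp, ?_⟩⟩
        · intro h0
          have h1 := congrArg (eval ![1, 0]) h0
          have h2 := congrArg (eval ![0, 1]) h0
          simp at h1 h2
          exact ha ⟨h1, h2⟩
        · split
          next h0 =>
            have hb : b ≠ 0 := fun hb => ha ⟨h0, hb⟩
            rw [h0, zero_mul, zero_sub, neg_eq_zero, mul_eq_zero] at hdet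
            rw [h0, hdet.resolve_left hb]
            field_simp
            ring
          next h0 =>
            field_simp
            linear_combination x 1 * hdet
    obtain ⟨q, hq0, hq, hx⟩ := hl
    have h1 : q * (C u * P + C v * Q) = 0 := MvPolynomial.funext fun x => by
      rw [map_zero, map_mul, map_add, map_mul, map_mul, eval_C, eval_C, hq, ← h x, (hx x).1, (hx x).2]
      ring
    have h2 := (mul_eq_zero.1 h1).resolve_left hq0
    have h3 : ∀ x, u * eval x P + v * eval x Q = 0 := fun x => by
      have := congrArg (eval x) h2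
      simpa using this
    rcases eq_or_ne v 0 with hv | hv
    · obtain ⟨x, hx0, hxQ⟩ := exists_zero_binary Q hQ (by omega)
      have hu := huv.resolve_right (not_not.2 hv)
      have := h3 x
      rw [hv, zero_mul, add_zero, mul_eq_zero] at this
      exact hne x hx0 (this.resolve_left hu) hxQ
    · obtain ⟨x, hx0, hxP⟩ := exists_zero_binary P hP (by omega)
      have := h3 x
      rw [hxP, mul_zero, zero_add, mul_eq_zero] at this
      exact hne x hx0 hxP (this.resolve_left hv)
  · exfalso
    -- independent forms: change coordinates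
    set D := a * e - b * c with hD
    let w0 : MvPolynomial (Fin 2) k := C (e / D) * X 0 + C (-b / D) * X 1
    let w1 : MvPolynomial (Fin 2) k := C (-c / D) * X 0 + C (a / D) * X 1
    let ψ : MvPolynomial (Fin 2) k →ₐ[k] MvPolynomial (Fin 2) k := MvPolynomial.aeval ![w0, w1]
    have hψ : ∀ R x, eval x (ψ R) = eval ![(e * x 0 - b * x 1) / D, (-c * x 0 + a * x 1) / D] R := by
      intro R x
      induction R using MvPolynomial.induction_on with
      | C r => simp [ψ]
      | add R S hR hS => rw [map_add, map_add, map_add, hR, hS]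
      | mul_X R i hR =>
        rw [map_mul, map_mul, map_mul, hR, eval_X]
        congr 1
        fin_cases i <;> simp [ψ, w0, w1] <;> ring
    have hψh : ∀ {R : MvPolynomial (Fin 2) k}, R.IsHomogeneous r → (ψ R).IsHomogeneous r := by
      intro R hR
      have hw : ∀ i, (![w0, w1] i).IsHomogeneous 1 := by
        intro i
        fin_cases i <;> exact ((isHomogeneous_X k 0).C_mul _).add ((isHomogeneous_X k 1).C_mul _)
      have h2 := hR.aeval ![w0, w1] hw
      rw [one_mul] at h2
      exact h2
    have h1 : X 0 * ψ P + X 1 * ψ Q = 0 := MvPolynomial.funext fun x => by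
      have := h ![(e * x 0 - b * x 1) / D, (-c * x 0 + a * x 1) / D]
      simp only [map_zero, map_add, map_mul, eval_X, hψ]
      rw [← this]
      have e0 : a * ((e * x 0 - b * x 1) / D) + b * ((-c * x 0 + a * x 1) / D) = x 0 := by
        field_simp; rw [hD]; ring
      have e1 : c * ((e * x 0 - b * x 1) / D) + e * ((-c * x 0 + a * x 1) / D) = x 1 := by
        field_simp; rw [hD]; ring
      simp only [Matrix.cons_val_zero, Matrix.cons_val_one, e0, e1]
    obtain ⟨R, hR⟩ : X 1 ∣ ψ P := by
      have hdvd : (X 1 : MvPolynomial (Fin 2) k) ∣ X 0 * ψ P := ⟨-ψ Q, by linear_combination h1⟩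
      rcases (MvPolynomial.X_prime (R := k) (i := (1 : Fin 2))).dvd_or_dvd hdvd with h2 | h2
      · exact absurd h2 (by rw [X_dvd_X]; simp)
      · exact h2
    have hQR : ψ Q = -(X 0 * R) := by
      refine mul_left_cancel₀ (X_ne_zero (R := k) (1 : Fin 2)) ?_
      linear_combination h1 - (X 0) * hR
    have hRh : ∀ x, x ≠ 0 → eval x R ≠ 0 := by
      intro x hx hR0
      refine hne ![(e * x 0 - b * x 1) / D, (-c * x 0 + a * x 1) / D] ?_ ?_ ?_
      · intro h0
        refine hx ?_
        have u0 := congrFun h0 0
        have u1 := congrFun h0 1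
        simp [div_eq_zero_iff, hdet] at u0 u1
        have v0 : D * x 0 = 0 := by rw [hD]; linear_combination a * u0 + b * u1
        have v1 : D * x 1 = 0 := by rw [hD]; linear_combination c * u0 + e * u1
        funext i
        fin_cases i
        · exact (mul_eq_zero.1 v0).resolve_left hdet
        · exact (mul_eq_zero.1 v1).resolve_left hdet
      · rw [← hψ, hR, map_mul, hR0, mul_zero]
      · rw [← hψ, hQR, map_neg, map_mul, hR0, mul_zero, neg_zero]
    -- `R` is a form of degree `r - 1`
    obtain ⟨x, hx, hxR⟩ := exists_zero_binary (homogeneousComponent (r - 1) R)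
      (homogeneousComponent_isHomogeneous _ _) (by omega)
    refine hRh x hx ?_
    have h4 : R = homogeneousComponent (r - 1) R := by
      refine mul_left_cancel₀ (X_ne_zero (R := k) (1 : Fin 2)) ?_
      have hh := hψh hP
      rw [hR] at hh
      ext m
      by_cases hm : Finsupp.weight (1 : Fin 2 → ℕ) m = r
      · rw [coeff_X_mul', coeff_X_mul']
        split
        next hs =>
          rw [coeff_homogeneousComponent, if_pos]
          have h5 : m - Finsupp.single 1 1 + Finsupp.single 1 1 = m :=
            tsub_add_cancel_of_le (Finsupp.single_le_iff.2 (Nat.pos_of_ne_zero (Finsupp.mem_support_iff.1 hs)))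
          rw [← h5, map_add] at hm
          rw [Finsupp.degree_eq_weight_one]
          simp [Finsupp.weight_apply] at hm ⊢
          omega
        next hs => rfl
      · rw [hh.coeff_eq_zero (by rw [Finsupp.degree_eq_weight_one]; exact hm)]
        rw [coeff_X_mul']
        split
        next hs =>
          rw [coeff_homogeneousComponent, if_neg]
          intro h6
          refine hm ?_
          have h5 : m - Finsupp.single 1 1 + Finsupp.single 1 1 = m :=
            tsub_add_cancel_of_le (Finsupp.single_le_iff.2 (Nat.pos_of_ne_zero (Finsupp.mem_support_iff.1 hs)))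
          rw [← h5, map_add]
          rw [Finsupp.degree_eq_weight_one] at h6
          simp [Finsupp.weight_apply] at h6 ⊢
          omega
        next hs => rfl
    rw [h4]
    exact hxR

end Groth.Agent.FanoLines
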