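import Mathlib
import Groth.Agent.FanoLines.Finite

/-!
# Charts of the lines on a surface
-/

set_option autoImplicit false
universe u

namespace Groth.Agent.FanoLines

open MvPolynomial

variable {k : Type u} [Field k]

theorem pderiv_aeval {s t : Type} [Fintype s] (g : s → MvPolynomial t k) (j : t) (f : MvPolynomial s k) :
    pderiv j (MvPolynomial.aeval g f) = ∑ i, pderiv j (g i) * MvPolynomial.aeval g (pderiv i f) := by
  classical
  induction f using MvPolynomial.induction_on with
  | C a => simp
  | add p q hp hq => simp only [map_add, hp, hq, mul_add, Finset.sum_add_distrib]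
  | mul_X p i hp =>
    rw [map_mul, pderiv_mul, hp, aeval_X, Finset.sum_mul]
    simp only [pderiv_mul, map_add, map_mul, mul_add, Finset.sum_add_distrib, aeval_X]
    congr 1
    · exact Finset.sum_congr rfl fun l _ => by ring
    · rw [Finset.sum_eq_single i]
      · rw [pderiv_X_self, map_one, mul_one, mul_comm]
      · intro l _ hl
        rw [pderiv_X_of_ne (Ne.symm hl), map_zero, mul_zero, mul_zero]
      · simp

/-- The points of the line with chart coordinates `p`. -/
def pt (σ : Equiv.Perm (Fin 4)) (p : Fin 4 → k) : (Fin 2 → k) →ₗ[k] (Fin 4 → k) where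
  toFun x := fun i => ![x 0, x 1, p 0 * x 0 + p 1 * x 1, p 2 * x 0 + p 3 * x 1] (σ.symm i)
  map_add' x y := by
    funext i
    simp only [Pi.add_apply]
    generalize σ.symm i = l
    fin_cases l <;> simp <;> ring
  map_smul' c x := by
    funext i
    simp only [Pi.smul_apply, RingHom.id_apply, smul_eq_mul]
    generalize σ.symm i = l
    fin_cases l <;> simp <;> ring

theorem pt_apply (σ : Equiv.Perm (Fin 4)) (p : Fin 4 → k) (x : Fin 2 → k) (l : Fin 4) :
    pt σ p x (σ l) = ![x 0, x 1, p 0 * x 0 + p 1 * x 1, p 2 * x 0 + p 3 * x 1] l := by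
  show ![_, _, _, _] (σ.symm (σ l)) = _
  rw [Equiv.symm_apply_apply]

theorem finite_chart [IsAlgClosed k] (d : ℕ) (hd : 3 ≤ d) (f : MvPolynomial (Fin 4) k) (hf : f.IsHomogeneous d)
    (hsm : ∀ v : Fin 4 → k, v ≠ 0 → eval v f = 0 → ∃ i : Fin 4, eval v (pderiv i f) ≠ 0)
    (σ : Equiv.Perm (Fin 4)) : {p : Fin 4 → k | ∀ x, eval (pt σ p x) f = 0}.Finite := by
  classical
  let gx : (Fin 2 → k) → Fin 4 → MvPolynomial (Fin 4) k := fun x i =>
    ![C (x 0), C (x 1), C (x 0) * X 0 + C (x 1) * X 1, C (x 0) * X 2 + C (x 1) * X 3] (σ.symm i)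
  have hev : ∀ (g : MvPolynomial (Fin 4) k) (x p), eval p (MvPolynomial.aeval (gx x) g) = eval (pt σ p x) g := by
    intro g x p
    induction g using MvPolynomial.induction_on with
    | C r => simp
    | add R S hR hS => rw [map_add, map_add, map_add, hR, hS]
    | mul_X R i hR =>
      rw [map_mul, map_mul, map_mul, hR, eval_X, aeval_X]
      congr 1
      show eval p (gx x i) = ![_, _, _, _] (σ.symm i)
      simp only [gx]
      generalize σ.symm i = l
      fin_cases l <;> simp <;> ring
  refine (finite_zeros (fun x => MvPolynomial.aeval (gx x) f) ?_).subset (fun p hp x => by rw [hev]; exact hp x)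
  intro p hp v hv
  have hp' : ∀ x, eval (pt σ p x) f = 0 := fun x => by rw [← hev]; exact hp x
  let bl : Fin 4 → MvPolynomial (Fin 2) k := fun i =>
    ![X 0, X 1, C (p 0) * X 0 + C (p 1) * X 1, C (p 2) * X 0 + C (p 3) * X 1] (σ.symm i)
  have hbl : ∀ (g : MvPolynomial (Fin 4) k) (x), eval x (MvPolynomial.aeval bl g) = eval (pt σ p x) g := by
    intro g x
    induction g using MvPolynomial.induction_on with
    | C r => simp
    | add R S hR hS => rw [map_add, map_add, map_add, hR, hS]
    | mul_X R i hR =>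
      rw [map_mul, map_mul, map_mul, hR, eval_X, aeval_X]
      congr 1
      show eval x (bl i) = ![_, _, _, _] (σ.symm i)
      simp only [bl]
      generalize σ.symm i = l
      fin_cases l <;> simp
  have hblh : ∀ i, (bl i).IsHomogeneous 1 := by
    intro i
    simp only [bl]
    generalize σ.symm i = l
    fin_cases l
    · exact isHomogeneous_X k 0
    · exact isHomogeneous_X k 1
    · exact ((isHomogeneous_X k 0).C_mul _).add ((isHomogeneous_X k 1).C_mul _)
    · exact ((isHomogeneous_X k 0).C_mul _).add ((isHomogeneous_X k 1).C_mul _)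
  have hsum : ∀ (u : Fin 4 → k) (F : Fin 4 → k), ∑ i, u (σ.symm i) * F i = u 0 * F (σ 0) + u 1 * F (σ 1) + u 2 * F (σ 2) + u 3 * F (σ 3) := by
    intro u F
    rw [← Equiv.sum_comp σ, Fin.sum_univ_four]
    simp
  set P := MvPolynomial.aeval bl (pderiv (σ 2) f) with hP
  set Q := MvPolynomial.aeval bl (pderiv (σ 3) f) with hQ
  have hne : ∀ x : Fin 2 → k, x ≠ 0 → eval x P = 0 → eval x Q ≠ 0 := by
    intro x hx hxP hxQ
    rw [hP, hbl] at hxP
    rw [hQ, hbl] at hxQ
    have hpt : pt σ p x ≠ 0 := by
      intro h0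
      refine hx ?_
      have u0 := congrFun h0 (σ 0)
      have u1 := congrFun h0 (σ 1)
      rw [pt_apply] at u0 u1
      funext i
      fin_cases i
      · simpa using u0
      · simpa using u1
    obtain ⟨i, hi⟩ := hsm _ hpt (hp' x)
    have hz : MvPolynomial.aeval bl f = 0 := MvPolynomial.funext fun y => by rw [map_zero, hbl, hp' y]
    have hder : ∀ l : Fin 2, ∑ i, eval x (pderiv l (bl i)) * eval (pt σ p x) (pderiv i f) = 0 := by
      intro l
      have h1 := congrArg (eval x) (pderiv_aeval bl l f)
      rw [hz, map_zero, map_zero, map_sum] at h1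
      rw [h1]
      exact Finset.sum_congr rfl fun i _ => by rw [map_mul, hbl]
    have d0 := hder 0
    have d1 := hder 1
    rw [show (fun i => eval x (pderiv (0 : Fin 2) (bl i)) * eval (pt σ p x) (pderiv i f)) =
      fun i => (![1, 0, p 0, p 2] : Fin 4 → k) (σ.symm i) * eval (pt σ p x) (pderiv i f) from funext fun i => by
        simp only [bl]; generalize σ.symm i = l; fin_cases l <;> simp [pderiv_C_mul],
      hsum, hxP, hxQ] at d0
    rw [show (fun i => eval x (pderiv (1 : Fin 2) (bl i)) * eval (pt σ p x) (pderiv i f)) =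
      fun i => (![0, 1, p 1, p 3] : Fin 4 → k) (σ.symm i) * eval (pt σ p x) (pderiv i f) from funext fun i => by
        simp only [bl]; generalize σ.symm i = l; fin_cases l <;> simp [pderiv_C_mul],
      hsum, hxP, hxQ] at d1
    simp at d0 d1
    refine hi ?_
    obtain ⟨l, rfl⟩ := σ.surjective i
    fin_cases l
    · exact d0
    · exact d1
    · exact hxP
    · exact hxQ
  have hPh : ∀ i, (MvPolynomial.aeval bl (pderiv i f)).IsHomogeneous (d - 1) := fun i => by
    have := (hf.pderiv (i := i)).aeval bl hblh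
    rwa [one_mul] at this
  have key := syzygy_eq_zero (r := d - 1) (by omega) P Q (hPh _) (hPh _) hne (v 0) (v 1) (v 2) (v 3) (fun x => by
    have h1 := hv x
    have h2 : ∀ j, eval p (pderiv j (MvPolynomial.aeval (gx x) f)) =
        ∑ i, (![0, 0, if j = 0 then x 0 else if j = 1 then x 1 else 0, if j = 2 then x 0 else if j = 3 then x 1 else 0] : Fin 4 → k)
          (σ.symm i) * eval (pt σ p x) (pderiv i f) := by
      intro j
      rw [pderiv_aeval, map_sum]
      refine Finset.sum_congr rfl fun i _ => ?_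
      rw [map_mul, hev]
      congr 1
      simp only [gx]
      generalize σ.symm i = l
      fin_cases l <;> fin_cases j <;> simp [pderiv_C_mul]
    simp only [h2, hsum, Fin.sum_univ_four] at h1
    rw [hP, hQ, hbl, hbl]
    simp at h1
    linear_combination h1)
  funext i
  fin_cases i
  · exact key.1
  · exact key.2.1
  · exact key.2.2.1
  · exact key.2.2.2

theorem finite_lines [IsAlgClosed k] (d : ℕ) (hd : 3 ≤ d) (f : MvPolynomial (Fin 4) k) (hf : f.IsHomogeneous d)
    (hsm : ∀ v : Fin 4 → k, v ≠ 0 → eval v f = 0 → ∃ i : Fin 4, eval v (pderiv i f) ≠ 0) :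
    {U : Submodule k (Fin 4 → k) | Module.finrank k ↥U = 2 ∧ ∀ u ∈ U, eval u f = 0}.Finite := by
  classical
  refine (Set.finite_iUnion fun σ : Equiv.Perm (Fin 4) =>
    (finite_chart d hd f hf hsm σ).image fun p => LinearMap.range (pt σ p)).subset ?_
  rintro U ⟨hU, hfU⟩
  let b := Module.finBasisOfFinrankEq k U hU
  set u : Fin 4 → k := (b 0 : Fin 4 → k) with hu
  set v : Fin 4 → k := (b 1 : Fin 4 → k) with hv
  obtain ⟨i, j, hdet⟩ : ∃ i j, u i * v j - u j * v i ≠ 0 := by
    by_contra! h
    have hu0 : u ≠ 0 := fun h0 => b.ne_zero 0 (Subtype.ext h0)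
    obtain ⟨i, hi⟩ := Function.ne_iff.1 hu0
    have h1 : v = (v i / u i) • u := by
      funext j
      rw [Pi.smul_apply, smul_eq_mul, div_mul_eq_mul_div, eq_div_iff hi]
      linear_combination h i j
    have h2 : b 1 = (v i / u i) • b 0 := Subtype.ext h1
    have h3 := congrArg b.repr h2
    rw [map_smul, b.repr_self, b.repr_self] at h3
    have h4 := DFunLike.congr_fun h3 1
    simp at h4
  have hij : j ≠ i := fun h => hdet (by rw [h]; ring)
  let σ : Equiv.Perm (Fin 4) := Equiv.swap ((Equiv.swap 0 i) 1) j * Equiv.swap 0 i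
  have h0 : σ 0 = i := by
    simp only [σ, Equiv.Perm.mul_apply, Equiv.swap_apply_left]
    refine Equiv.swap_apply_of_ne_of_ne ?_ hij.symm
    intro h
    have := (Equiv.swap (0 : Fin 4) i).injective ((Equiv.swap_apply_left (0 : Fin 4) i).trans h)
    simp at this
  have h1 : σ 1 = j := by simp [σ]
  set D := u i * v j - u j * v i with hD
  set u' := (v j / D) • u + (-u j / D) • v with hu'
  set v' := (-v i / D) • u + (u i / D) • v with hv'
  set p : Fin 4 → k := ![u' (σ 2), v' (σ 2), u' (σ 3), v' (σ 3)] with hp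
  have hpt : ∀ x : Fin 2 → k, pt σ p x = x 0 • u' + x 1 • v' := by
    intro x
    funext m
    obtain ⟨l, rfl⟩ := σ.surjective m
    rw [pt_apply]
    fin_cases l
    · simp [h0, hu', hv']; field_simp; rw [hD]; ring
    · simp [h1, hu', hv']; field_simp; rw [hD]; ring
    · simp [hp]; ring
    · simp [hp]; ring
  have hle : LinearMap.range (pt σ p) ≤ U := by
    rintro _ ⟨x, rfl⟩
    rw [hpt, hu', hv']
    exact add_mem (U.smul_mem _ (add_mem (U.smul_mem _ (b 0).2) (U.smul_mem _ (b 1).2)))
      (U.smul_mem _ (add_mem (U.smul_mem _ (b 0).2) (U.smul_mem _ (b 1).2)))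
  have hinj : Function.Injective (pt σ p) := by
    intro x y hxy
    have u0 := congrFun hxy (σ 0)
    have u1 := congrFun hxy (σ 1)
    rw [pt_apply, pt_apply] at u0 u1
    funext l
    fin_cases l
    · simpa using u0
    · simpa using u1
  refine Set.mem_iUnion.2 ⟨σ, p, fun x => hfU _ (hle ⟨x, rfl⟩), ?_⟩
  exact Submodule.eq_of_le_of_finrank_eq hle (by rw [LinearMap.finrank_range_of_inj hinj, hU, Module.finrank_fin_fun])

end Groth.Agent.FanoLines
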